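import Cfsg.Agent.H21.WA.LinkBasic
import Cfsg.Agent.Components.PLocalMore

/-!
# A met component centralised by an involution of `C(A)` passes into one of its centraliser

For a met component `L` of `C(b)` modulo the core and an involution `x` of `C(A)` trivial on `L`,
the perfect part `M` of `C(x) ⊓ pre b L` covers `L`; as `M = [M, A]`, its image in `C(x)` modulo
the core lies in the product of the met components, and in exactly one of them as a centraliser of
the part of `A` in a met component is soluble.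
-/

set_option autoImplicit false
set_option linter.unusedSectionVars false
set_option linter.style.haveILetI false

namespace Cfsg.Agent.H21.WA

open Subgroup Cfsg.Agent
open Cfsg.Agent.H88.Walter (Bb pre cen vp qp core perfPart mem_pre)
open Cfsg.Agent.H21.Walter (coreProj coreImage coreProj_eq_one_iff)
open Cfsg.Agent.H10.Walter (AbSyl)
open Cfsg.Agent.H77.WA
open scoped commutatorElement

universe u

variable {G : Type u} [Group G] [Finite G]

local instance fact_two_link' : Fact (Nat.Prime 2) := ⟨Nat.prime_two⟩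

/-- As `H88.Walter.le_of_le_sup`, with the perfect subgroups of `R` inside `K`. -/
theorem le_of_le_sup' {Y K R : Subgroup G} (hY : ⁅Y, Y⁆ = Y)
    (hR : R ≤ normalizer (K : Set G)) (hle : Y ≤ K ⊔ R)
    (hno : ∀ Z ≤ R, ⁅Z, Z⁆ = Z → Z ≤ K) : Y ≤ K := by
  obtain ⟨Z, ⟨hZR, hZ⟩, hmin⟩ := (Set.toFinite {Z : Subgroup G | Z ≤ R ∧ Y ≤ K ⊔ Z}).exists_minimal
    ⟨R, le_rfl, hle⟩
  have hp : ⁅Z, Z⁆ = Z := le_antisymm (commutator_le_self Z) (hmin
    ⟨(commutator_le_self Z).trans hZR, hY.ge.trans ((commutator_mono hZ hZ).trans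
      (H88.Walter.commutator_sup_le' (hZR.trans hR)))⟩ (commutator_le_self Z))
  exact hZ.trans (sup_le le_rfl (hno Z hZR hp))

/-- A perfect subgroup covering a component does not lie in an odd core. -/
theorem not_le_core {b y : G} {M : Subgroup G} {L : Subgroup (Bb b)} (hL : Cfsg.IsComponent L)
    (hM : ⁅M, M⁆ = M) (him : coreImage b M = L) : ¬ M ≤ core y := fun h => by
  have h1 : M = ⊥ := H88.Walter.perfect_odd_eq_bot hM
    (H88.Walter.odd_of_le (H88.Walter.core_odd y) h)
  refine Components.qsSub_ne_bot hL.2 ?_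
  rw [← him, coreImage_eq_bot_iff (h1 ▸ bot_le), h1]
  exact bot_le

/-- The image of an elementary abelian subgroup is elementary abelian. -/
theorem elem_coreImage {A : Subgroup G} (hA : Cfsg.IsElementaryAbelian 2 A) (x : G) :
    Cfsg.IsElementaryAbelian 2 (coreImage x A) := by
  refine ⟨⟨⟨?_⟩⟩, ?_⟩
  · rintro ⟨p, hp⟩ ⟨q, hq⟩
    obtain ⟨g, hg, hgA, rfl⟩ := mem_coreImage.1 hp
    obtain ⟨k, hk, hkA, rfl⟩ := mem_coreImage.1 hq
    refine Subtype.ext ?_
    show coreProj x ⟨g, hg⟩ * coreProj x ⟨k, hk⟩ = coreProj x ⟨k, hk⟩ * coreProj x ⟨g, hg⟩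
    rw [← map_mul, ← map_mul]
    haveI := hA.1
    exact congrArg _ (Subtype.ext
      (congrArg Subtype.val (mul_comm' (⟨g, hgA⟩ : ↥A) ⟨k, hkA⟩) : g * k = k * g))
  · intro p hp
    obtain ⟨g, hg, hgA, rfl⟩ := mem_coreImage.1 hp
    rw [← map_pow, show (⟨g, hg⟩ : ↥(centralizer ({x} : Set G))) ^ 2 = 1 from
      Subtype.ext (by simpa using hA.2 g hgA), map_one]

variable {S : Sylow 2 G} {A : Subgroup G} {b x : G}

theorem le_centralizer_singleton (hb : b ∈ centralizer (A : Set G)) :
    A ≤ centralizer ({b} : Set G) := fun a ha =>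
  mem_centralizer_singleton_iff.2 (mem_centralizer_iff.1 hb a ha)

/-- If a subgroup of `A` moves `L`, a perfect subgroup covering `L` and normalised by `A` is its
commutator with it. -/
theorem le_commutator_of_moves (hb : b ∈ centralizer (A : Set G))
    {L : Subgroup (Bb b)} (hL : Cfsg.IsComponent L) {M : Subgroup G} (hM : ⁅M, M⁆ = M)
    (hMb : M ≤ centralizer ({b} : Set G)) (him : coreImage b M = L)
    (hAM : A ≤ normalizer (M : Set G)) {Q : Subgroup G} (hQ : Q ≤ A)
    (hmove : ¬ Q ≤ cen b L) : M ≤ ⁅M, Q⁆ := by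
  have hQb : Q ≤ centralizer ({b} : Set G) := hQ.trans (le_centralizer_singleton hb)
  have hcle : ⁅M, Q⁆ ≤ M := le_normalizer_iff_commutator_le_left.1 (hQ.trans hAM)
  set Qb := coreImage b Q with hQbdef
  have hQn : Qb ≤ normalizer (L : Set (Bb b)) := by
    rw [← him]; exact coreImage_le_normalizer (hQ.trans hAM)
  have hcL : ⁅L, Qb⁆ ≤ L := le_normalizer_iff_commutator_le_left.1 hQn
  haveI : (⁅L, Qb⁆.subgroupOf L).Normal :=
    normal_subgroupOf_of_le_normalizer (normalizer_commutator_ge_left L Qb)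
  rcases Components.qs_subnormal hL.2 (Subgroup.Normal.isSubnormal (H := ⁅L, Qb⁆.subgroupOf L)
    inferInstance) with h | h
  · have hle : coreImage b M ≤ coreImage b ⁅M, Q⁆ := by
      rw [coreImage_commutator hMb hQb, him]
      exact subgroupOf_eq_top.1 h
    refine le_of_le_sup' hM (R := M ⊓ core b)
      (inf_le_left.trans (normalizer_commutator_ge_left M Q)) (fun m hm => ?_)
      fun Z hZ hp => (H88.Walter.perfect_odd_eq_bot hp
        (H88.Walter.odd_of_le (H88.Walter.core_odd b) (hZ.trans inf_le_right))).le.trans bot_le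
    obtain ⟨n, hnb, hn, e⟩ := mem_coreImage.1 (hle (mem_coreImage.2 ⟨m, hMb hm, hm, rfl⟩))
    have hk : n⁻¹ * m ∈ core b :=
      (coreProj_eq_one_iff (x := (⟨n, hnb⟩⁻¹ * ⟨m, hMb hm⟩ : ↥(centralizer ({b} : Set G))))).1
        (by rw [map_mul, map_inv, e, inv_mul_cancel])
    simpa using mul_mem (mem_sup_left (T := M ⊓ core b) hn)
      (mem_sup_right (S := ⁅M, Q⁆) ⟨M.mul_mem (M.inv_mem (hcle hn)) hm, hk⟩)
  · refine absurd ((coreImage_le_iff hQb).1 ?_) hmove
    rw [← hQbdef, ← commutator_eq_bot_iff_le_centralizer]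
    refine Components.commutator_eq_bot_of_perfect' (Components.component_perfect hL) ?_
    rw [commutator_eq_bot_iff_le_centralizer, commutator_comm Qb L]
    exact fun y hy => mem_centralizer_iff.2 fun l hl =>
      congrArg Subtype.val (mem_center_iff.1 (h (mem_subgroupOf.2 hy : (⟨y, hcL hy⟩ : ↥L) ∈ _))
        ⟨l, hl⟩)

/-- The perfect part of `C(x) ⊓ pre b L` lies over one met component of `C(x)`. -/
theorem link (hcfg : Cfg S A) (hbs : BarStruct.{u}) (htf : TypeFacts.{u})
    (hb : b ∈ centralizer (A : Set G)) (hb2 : orderOf b = 2)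
    (hx : x ∈ centralizer (A : Set G)) (hx2 : orderOf x = 2)
    {L : Subgroup (Bb b)} (hL : CMet A b L) (hxL : x ∈ cen b L) :
    ∃ J : Subgroup (Bb x), CMet A x J ∧ vp A b L ≤ vp A x J ∧ qp A x J ≤ qp A b L ∧
      perfPart (centralizer ({x} : Set G) ⊓ pre b L) ≤ pre x J ∧
      coreImage b (perfPart (centralizer ({x} : Set G) ⊓ pre b L)) = L := by
  have hSb := hbs G S A hcfg b hb hb2
  have hSx := hbs G S A hcfg x hx hx2
  have hAb := le_centralizer_singleton hb
  have hAx := le_centralizer_singleton hx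
  obtain ⟨hxb, hxc⟩ := mem_pre.1 hxL
  set D := centralizer ({x} : Set G) ⊓ pre b L with hDdef
  set M := perfPart D
  have hDb : D ≤ centralizer ({b} : Set G) := inf_le_right.trans (H88.Walter.pre_le b L)
  have hMD : M ≤ D := H88.Walter.perfPart_le D
  have hMb : M ≤ centralizer ({b} : Set G) := hMD.trans hDb
  have hMx : M ≤ centralizer ({x} : Set G) := hMD.trans inf_le_left
  have hMp : ⁅M, M⁆ = M := H88.Walter.perfPart_perfect D
  -- `D` covers `L`
  have hLD : L ≤ (D.subgroupOf (centralizer ({b} : Set G))).map (coreProj b) := by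
    intro y hy
    have hP : IsPGroup 2 ↥((zpowers x).subgroupOf (centralizer ({b} : Set G))) :=
      (IsPGroup.of_card (n := 1) (by rw [Nat.card_zpowers, hx2, pow_one]) :
        IsPGroup 2 ↥(zpowers x)).comap_subtype
    have hc := Cores.map_centralizer_of_coprime
      (Cfsg.pPrimeCore 2 ↥(centralizer ({b} : Set G)))
      ((Nat.prime_two.coprime_iff_not_dvd.2 Cores.not_dvd_card_pPrimeCore).symm) hP
    have hm : y ∈ centralizer (((zpowers x).subgroupOf (centralizer ({b} : Set G))).map
        (QuotientGroup.mk' (Cfsg.pPrimeCore 2 ↥(centralizer ({b} : Set G)))) : Set (Bb b)) := by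
      refine mem_centralizer_iff.2 ?_
      rintro _ ⟨⟨z, hzb⟩, hz, rfl⟩
      obtain ⟨n, rfl⟩ := mem_zpowers_iff.1 (show z ∈ zpowers x from hz)
      show coreProj b ⟨x ^ n, hzb⟩ * y = y * coreProj b ⟨x ^ n, hzb⟩
      rw [show (⟨x ^ n, hzb⟩ : ↥(centralizer ({b} : Set G))) = ⟨x, hxb⟩ ^ n from
        Subtype.ext (by simp), map_zpow]
      exact ((mem_centralizer_iff.1 (zpow_mem hxc n)) y hy).symm
    rw [← hc] at hm
    obtain ⟨⟨g, hgb⟩, hg, rfl⟩ := hm
    exact mem_map_of_mem _ (show (⟨g, hgb⟩ : ↥(centralizer ({b} : Set G))) ∈ D.subgroupOf _ from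
      ⟨mem_centralizer_singleton_iff.2 (congrArg Subtype.val
        (mem_centralizer_iff.1 hg ⟨x, hxb⟩ (mem_zpowers x))).symm, mem_pre.2 ⟨hgb, hy⟩⟩)
  have him : coreImage b M = L := by
    refine le_antisymm ((coreImage_le_iff hMb).2 (hMD.trans inf_le_right)) ?_
    refine (H88.Walter.le_map_perfPart (coreProj b) (Components.component_perfect hL.1) hLD).trans
      (map_mono ?_)
    refine map_le_iff_le_comap.1 (H88.Walter.le_perfPart
      ((map_mono (H88.Walter.perfPart_le _)).trans ?_)
      (by rw [← map_commutator, H88.Walter.perfPart_perfect]))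
    rw [subgroupOf_map_subtype]
    exact inf_le_left
  have hAD : A ≤ normalizer (D : Set G) := fun a ha =>
    inf_normalizer_le_normalizer_inf ⟨le_normalizer (hAx ha),
      mem_normalizer_pre (hAb ha) (hSb.fix L hL.1 (mem_coreImage.2 ⟨a, hAb ha, ha, rfl⟩))⟩
  have hAM : A ≤ normalizer (M : Set G) := hAD.trans (H88.Walter.normalizer_le_perfPart D)
  -- the image in `C(x)`
  set Ax := coreImage x A with hAxdef
  set Mb := coreImage x M with hMbdef
  have hAxel := elem_coreImage hcfg.elem x
  have hMbp : ⁅Mb, Mb⁆ = Mb := perfect_coreImage' hMx hMp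
  have hMne : ¬ Mb = ⊥ := fun h =>
    not_le_core hL.1 hMp him ((coreImage_eq_bot_iff hMx).1 h)
  set Em := ⨆ J : {J : Subgroup (Bb x) // Met Ax J}, (J : Subgroup (Bb x))
  have hMEm : Mb ≤ Em := by
    haveI := hSx.normal
    have h1 : M ≤ ⁅M, A⁆ := by
      refine le_commutator_of_moves hb hL.1 hMp hMb him hAM le_rfl fun h => hL.2 ?_
      exact (coreImage_le_iff hAb).2 h
    have h2 : Mb ≤ Ax ⊔ Em := by
      refine (coreImage_mono' h1).trans ?_
      rw [coreImage_commutator hMx hAx]
      exact (commutator_mono le_rfl le_sup_left).trans (commutator_le_right _ _)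
    rw [sup_comm] at h2
    refine H88.Walter.le_of_le_sup hMbp ?_ h2 fun Z hZ hp => ?_
    · exact (le_iInf fun J : {J : Subgroup (Bb x) // Met Ax J} => hSx.fix J J.2.1).trans
        (iInf_normalizer_le_normalizer_iSup _)
    · haveI := hAxel.1
      exact perfect_eq_bot Coprime.isSolvable_of_isMulCommutative hZ hp
  have hEmn : ∀ J, Met Ax J → Em ≤ normalizer (J : Set (Bb x)) := fun J hJ =>
    iSup_le fun K => (Components.component_le_layer K.2.1).trans
      (Components.layer_le_normalizer_component hJ.1)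
  have hone : ∃ J, Met Ax J ∧ ¬ vp A x J ≤ cen b L := by
    by_contra! hall
    refine hMne ?_
    have key : ∀ J, Met Ax J → Mb ≤ centralizer (J : Set (Bb x)) := by
      intro J hJ
      set Q := vp A x J with hQdef
      have hQA : Q ≤ A := inf_le_left
      set R := M ⊓ core b
      have hRn : M ≤ normalizer (R : Set G) := (le_inf le_normalizer
        (hMb.trans (H88.Walter.core_normal b))).trans inf_normalizer_le_normalizer_inf
      have hcQ : ⁅M, Q⁆ ≤ R := by
        have h2 : coreImage b ⁅M, Q⁆ = ⊥ := by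
          rw [coreImage_commutator hMb (hQA.trans hAb), him, commutator_comm,
            commutator_eq_bot_iff_le_centralizer]
          exact (coreImage_le_iff (hQA.trans hAb)).2 (hall J hJ)
        have h3 := le_normalizer_iff_commutator_le_left.1 (hQA.trans hAM)
        exact le_inf h3 ((coreImage_eq_bot_iff (h3.trans hMb)).1 h2)
      set C0 := M ⊓ centralizer (Q : Set G)
      have hM0 : M ≤ R ⊔ C0 := by
        intro m hm
        have hPN : Q ≤ normalizer (R : Set G) := (le_inf (hQA.trans hAM)
          ((hQA.trans hAb).trans (H88.Walter.core_normal b))).trans inf_normalizer_le_normalizer_inf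
        obtain ⟨n, hn, hc⟩ := Coprime.exists_commute_mem_coset (k := m) (p := 2)
          ((H47.isPGroup_of_elementaryAbelian hcfg.elem).to_le hQA) hPN
          (fun h => Nat.not_even_iff_odd.2 (H88.Walter.odd_of_le (H88.Walter.core_odd b)
            inf_le_right) (even_iff_two_dvd.2 (h : 2 ∣ Nat.card R)))
          (fun a ha => by
            have := hcQ (commutator_mem_commutator (inv_mem hm) ha)
            simpa [commutatorElement_def, mul_assoc] using this)
        have hmn : m * n ∈ C0 := ⟨mul_mem hm hn.1, hc⟩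
        simpa using mul_mem (mem_sup_right (S := R) hmn) (mem_sup_left (T := C0) (inv_mem hn))
      set W := J ⊓ centralizer ((Ax ⊓ J : Subgroup (Bb x)) : Set (Bb x))
      have hW : Group.IsSolvable ↥W := solvable_centralizer htf hAxel hSx hJ
      set C := centralizer (J : Set (Bb x))
      set Y := coreImage x C0
      have hJC : J ≤ normalizer (C : Set (Bb x)) := le_normalizer.trans
        (Components.normalizer_le_normalizer_centralizer J)
      have hYM : Y ≤ Mb := coreImage_mono' inf_le_left
      have hMn : Mb ≤ normalizer (J : Set (Bb x)) := hMEm.trans (hEmn J hJ)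
      have hYW : Y ≤ C ⊔ W := by
        intro y hy
        have hEJ : Em ≤ C ⊔ J := iSup_le fun K => by
          rcases eq_or_ne (K : Subgroup (Bb x)) J with e | e
          · exact e ▸ le_sup_right
          · exact (commutator_eq_bot_iff_le_centralizer.1
              (Components.components_commute K.2.1 hJ.1 e)).trans le_sup_left
        obtain ⟨d, hd, j, hj, rfl⟩ := (Coprime.mem_sup_iff hJC).1 (hEJ (hMEm (hYM hy)))
        refine mul_mem (mem_sup_left hd) (mem_sup_right ⟨hj, mem_centralizer_iff.2 ?_⟩)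
        rintro z ⟨hzA, hzJ⟩
        have hzd : z * d = d * z := mem_centralizer_iff.1 hd z hzJ
        obtain ⟨a, hax, ha, rfl⟩ := mem_coreImage.1 hzA
        obtain ⟨m, hmx, hm, e⟩ := mem_coreImage.1 hy
        have hzy : coreProj x ⟨a, hax⟩ * (d * j) = d * j * coreProj x ⟨a, hax⟩ := by
          rw [← e, ← map_mul, ← map_mul]
          exact congrArg _ (Subtype.ext
            (mem_centralizer_iff.1 hm.2 a ⟨ha, mem_pre.2 ⟨hax, hzJ⟩⟩))
        rw [← mul_assoc, hzd, mul_assoc, mul_assoc] at hzy
        exact mul_left_cancel hzy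
      have hR' : coreImage x R ≤ Mb := coreImage_mono' inf_le_left
      have hle : Mb ≤ (C ⊔ coreImage x R) ⊔ Y := by
        refine (coreImage_mono' hM0).trans (le_of_eq_of_le (coreImage_sup
          (inf_le_left.trans hMx) (inf_le_left.trans hMx)) ?_)
        exact sup_le_sup_right le_sup_right _
      have hK : Y ≤ normalizer ((C ⊔ coreImage x R : Subgroup (Bb x)) : Set (Bb x)) :=
        hYM.trans ((le_inf (hMn.trans (Components.normalizer_le_normalizer_centralizer J))
          (coreImage_le_normalizer hRn)).trans (normalizer_inf_normalizer_le_normalizer_sup _ _))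
      have h1 : Mb ≤ C ⊔ coreImage x R := le_of_le_sup' hMbp hK hle fun Z hZ hp =>
        (H88.Walter.le_of_le_sup hp (inf_le_left.trans hJC) (hZ.trans hYW)
          fun Z' hZ' hp' => perfect_eq_bot hW hZ' hp').trans le_sup_left
      refine H88.Walter.le_of_le_sup hMbp
        ((hR'.trans hMn).trans (Components.normalizer_le_normalizer_centralizer J)) h1
        fun Z hZ hp => H88.Walter.perfect_odd_eq_bot hp (H88.Walter.odd_of_le
          (H21.Walter.card_coreImage_odd x fun h => ?_) hZ)
      exact Nat.not_even_iff_odd.2 (H88.Walter.odd_of_le (H88.Walter.core_odd b)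
        inf_le_right) (even_iff_two_dvd.2 h)
    have hEc : Em ≤ centralizer (Mb : Set (Bb x)) :=
      iSup_le fun K => le_centralizer_iff.1 (key K K.2)
    rw [← hMbp, commutator_eq_bot_iff_le_centralizer]
    exact hMEm.trans hEc
  obtain ⟨J, hJ, hJmove⟩ := hone
  have hvA : vp A x J ≤ A := inf_le_left
  -- `M` lies over `J`
  have hMJ : M ≤ pre x J := by
    rw [← coreImage_le_iff hMx]
    have h1 := le_commutator_of_moves hb hL.1 hMp hMb him hAM hvA hJmove
    refine (coreImage_mono' h1).trans ?_
    rw [coreImage_commutator hMx (hvA.trans hAx)]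
    refine (commutator_mono le_rfl ((coreImage_le_iff (hvA.trans hAx)).2 inf_le_right)).trans ?_
    exact le_normalizer_iff_commutator_le_right.1 (hMEm.trans (hEmn J hJ))
  refine ⟨J, hJ, fun a ha => ⟨ha.1, hMJ ?_⟩, ?_, hMJ, him⟩
  · -- the piece of `L` lies in `M`
    have haD : a ∈ D := ⟨hAx ha.1, ha.2⟩
    obtain ⟨_, hal⟩ := mem_pre.1 ha.2
    rw [← him] at hal
    obtain ⟨m, hmb, hm, e⟩ := mem_coreImage.1 hal
    set k := m⁻¹ * a with hk
    have hkc : k ∈ core b :=
      (coreProj_eq_one_iff (x := (⟨m, hmb⟩⁻¹ * ⟨a, hAb ha.1⟩ : ↥(centralizer ({b} : Set G))))).1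
        (by rw [map_mul, map_inv, e, inv_mul_cancel])
    have hkn : k ∈ normalizer (M : Set G) :=
      mul_mem (inv_mem (le_normalizer hm)) (hAM ha.1)
    have hodd : Odd (orderOf k) := H88.Walter.odd_of_mem (H88.Walter.core_odd b) hkc
    have hpow : ∀ j : ℕ, a ^ j * (k ^ j)⁻¹ ∈ M := by
      intro j
      induction j with
      | zero => simp
      | succ j ih =>
        have h1 := mul_mem ih (Coprime.conj_mem (pow_mem hkn j) hm)
        convert h1 using 1
        rw [pow_succ, pow_succ, hk]
        group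
    have h1 := hpow (orderOf k)
    have ha2 : a ^ 2 = 1 := hcfg.elem.2 a ha.1
    obtain ⟨i, hi⟩ := hodd
    rwa [pow_orderOf_eq_one, inv_one, mul_one, hi, pow_succ, pow_mul, ha2, one_pow, one_mul] at h1
  · -- the kernel at `J` is in the kernel at `L`
    have hQA : qp A x J ≤ A := inf_le_left
    refine le_inf hQA ?_
    by_contra hmove
    refine hMne ?_
    have h1 := le_commutator_of_moves hb hL.1 hMp hMb him hAM hQA hmove
    refine le_bot_iff.1 ((coreImage_mono' h1).trans ?_)
    rw [coreImage_commutator hMx (hQA.trans hAx), commutator_comm]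
    refine (commutator_mono ((coreImage_le_iff (hQA.trans hAx)).2 inf_le_right)
      ((coreImage_le_iff hMx).2 hMJ)).trans ?_
    exact (commutator_eq_bot_iff_le_centralizer.2 le_rfl).le

/-- What centralises `J` and `b` centralises the component lying under `J`. -/
theorem centralizer_inf_cen_le {M : Subgroup G} {L : Subgroup (Bb b)} {J : Subgroup (Bb x)}
    (hL : Cfsg.IsComponent L) (hMb : M ≤ centralizer ({b} : Set G))
    (hMx : M ≤ centralizer ({x} : Set G)) (him : coreImage b M = L) (hMJ : M ≤ pre x J) :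
    centralizer ({b} : Set G) ⊓ cen x J ≤ cen b L := by
  intro g hg
  have hgb : zpowers g ≤ centralizer ({b} : Set G) := zpowers_le.2 hg.1
  have hgc : zpowers g ≤ cen x J := zpowers_le.2 hg.2
  have hgx : zpowers g ≤ centralizer ({x} : Set G) := hgc.trans (H88.Walter.pre_le x _)
  have hUx : ⁅zpowers g, M⁆ ≤ core x := by
    refine (coreImage_eq_bot_iff ((commutator_mono hgx hMx).trans (commutator_le_self _))).1 ?_
    rw [coreImage_commutator hgx hMx, commutator_eq_bot_iff_le_centralizer]
    exact ((coreImage_le_iff hgx).2 hgc).trans (centralizer_le ((coreImage_le_iff hMx).2 hMJ))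
  set U := ⁅coreImage b (zpowers g), L⁆ with hU
  have hodd : Odd (Nat.card U) := by
    rw [hU, ← him, ← coreImage_commutator hgb hMb]
    exact H21.Walter.card_coreImage_odd b fun h => Nat.not_even_iff_odd.2
      (H88.Walter.odd_of_le (H88.Walter.core_odd x) hUx) (even_iff_two_dvd.2 h)
  have hcen : coreImage b (zpowers g) ≤ centralizer (L : Set (Bb b)) := by
    rw [← commutator_eq_bot_iff_le_centralizer]
    refine Components.commutator_eq_bot_of_perfect' (Components.component_perfect hL) ?_
    rcases Components.qs_subnormal_le_or_commutator_eq_bot (T := L ⊔ U) hL.2 le_sup_left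
      hL.1.subgroupOf le_sup_right
      (sup_le (normalizer_commutator_ge_right _ L) le_normalizer) with h | h
    · exact absurd (H88.Walter.perfect_odd_eq_bot (Components.component_perfect hL)
        (H88.Walter.odd_of_le hodd h)) (Components.qsSub_ne_bot hL.2)
    · rwa [commutator_comm] at h
  exact (coreImage_le_iff hgb).1 hcen (mem_zpowers g)

/-- **The link.** -/
theorem linkFacts : TypeFacts.{u} → BarStruct.{u} → LinkFacts.{u} := by
  intro htf hbs G _ _ S A hcfg b x hb hb2 hxA hx2 L hL hxL
  have hSb := hbs G S A hcfg b hb hb2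
  have hSx := hbs G S A hcfg x hxA hx2
  obtain ⟨J, hJ, hv, hq, hM, him⟩ := link hcfg hbs htf hb hb2 hxA hx2 hL hxL
  set M := perfPart (centralizer ({x} : Set G) ⊓ pre b L)
  have hMD : M ≤ centralizer ({x} : Set G) ⊓ pre b L := H88.Walter.perfPart_le _
  have hMp : ⁅M, M⁆ = M := H88.Walter.perfPart_perfect _
  have hMb : M ≤ centralizer ({b} : Set G) :=
    hMD.trans (inf_le_right.trans (H88.Walter.pre_le b L))
  have hMx : M ≤ centralizer ({x} : Set G) := hMD.trans inf_le_left
  refine ⟨J, hJ, hv, hq, (perfRes_le_perfPart _).trans hM,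
    centralizer_inf_cen_le hL.1 hMb hMx him hM, fun hbJ => le_antisymm hq ?_,
    fun hbA hna => ?_⟩
  · obtain ⟨L', hL', _, hq', hM', _⟩ := link hcfg hbs htf hxA hx2 hb hb2 hJ hbJ
    have hle : L ≤ L' := by
      rw [← him, coreImage_le_iff hMb]
      exact (H88.Walter.le_perfPart (le_inf hMb hM) hMp).trans hM'
    obtain rfl := Components.component_eq_of_le hL.1 hL'.1 hle
    exact hq'
  have hJna : ¬ AbSyl (Quot J) := by
    intro hab
    refine hna ?_
    have hJab : AbSyl ↥J := absyl_of_ker (QuotientGroup.mk' (center ↥J))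
      (by rw [QuotientGroup.ker_mk', hSx.center_bot J hJ hab, card_bot]; exact odd_one) hab
    exact (absyl_of_link hMx hMb ((coreImage_le_iff hMx).2 hM) him hJab).surj
      (QuotientGroup.mk' (center ↥L)) (QuotientGroup.mk'_surjective _)
  refine ⟨?_, hJna⟩
  have hNT : NType (Quot J) := (hSx.type J hJ).resolve_left fun h => hJna h.2.2.1
  by_contra hbc
  refine not_le_core hL.1 hMp him ((coreImage_eq_bot_iff hMx).1 ?_)
  have hbx : b ∈ centralizer ({x} : Set G) := le_centralizer_singleton hxA hbA
  have hbJ : coreProj x ⟨b, hbx⟩ ∈ centralizer (J : Set (Bb x)) ⊔ J := by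
    rw [sup_comm]
    exact (hSx.split J hJ).trans (sup_le_sup inf_le_right inf_le_right)
      (mem_coreImage.2 ⟨b, hbx, hbA, rfl⟩)
  obtain ⟨c, hc, j, hj, e⟩ := (Coprime.mem_sup_iff (le_normalizer.trans
    (Components.normalizer_le_normalizer_centralizer J))).1 hbJ
  set π := QuotientGroup.mk' (center ↥J)
  have hcj : ∀ y ∈ J, c * y = y * c := fun y hy => (mem_centralizer_iff.1 hc y hy).symm
  have hj1 : π ⟨j, hj⟩ ≠ 1 := fun h => by
    refine hbc (mem_pre.2 ⟨hbx, e ▸ mul_mem hc (mem_centralizer_iff.2 fun y hy => ?_)⟩)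
    exact congrArg Subtype.val (mem_center_iff.1 ((QuotientGroup.eq_one_iff _).1 h) ⟨y, hy⟩)
  have hj2 : (⟨j, hj⟩ : ↥J) * ⟨j, hj⟩ ∈ center ↥J := by
    have h1 : (c * j) * (c * j) = 1 := by
      rw [e, ← map_mul, show (⟨b, hbx⟩ : ↥(centralizer ({x} : Set G))) * ⟨b, hbx⟩ = 1 from
        Subtype.ext (by simpa [pow_two] using hcfg.elem.2 b hbA), map_one]
    have h2 : j * j = (c * c)⁻¹ := eq_inv_of_mul_eq_one_right (by
      rw [← h1, mul_assoc c j, ← mul_assoc j c, ← hcj j hj]
      group)
    refine mem_center_iff.2 fun y => Subtype.ext ?_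
    have h3 : j * j ∈ centralizer (J : Set (Bb x)) := h2 ▸ inv_mem (mul_mem hc hc)
    exact mem_centralizer_iff.1 h3 y y.2
  have hord : orderOf (π ⟨j, hj⟩) = 2 :=
    orderOf_eq_prime (by rw [pow_two, ← map_mul]; exact (QuotientGroup.eq_one_iff _).2 hj2) hj1
  obtain ⟨T⟩ : Nonempty (Sylow 2 (Quot J)) := inferInstance
  obtain ⟨V, hV⟩ := htf.nab _ hNT T
  have hMJ : coreImage x M ≤ J := (coreImage_le_iff hMx).2 hM
  refine perfect_eq_bot (solvable_of_image hMJ (hV.soluble _ hord) ?_) le_rfl
    (perfect_coreImage' hMx hMp)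
  rintro _ ⟨⟨y, hy⟩, hym, rfl⟩
  refine mem_centralizer_singleton_iff.2 ?_
  rw [← map_mul, ← map_mul]
  refine congrArg π (Subtype.ext ?_)
  show y * j = j * y
  obtain ⟨m, hmx, hm, e'⟩ := mem_coreImage.1 (show y ∈ coreImage x M from hym)
  have hby : (c * j) * y = y * (c * j) := by
    rw [e, ← e', ← map_mul, ← map_mul]
    exact congrArg _ (Subtype.ext
      (mem_centralizer_singleton_iff.1 (hMb hm) : m * b = b * m).symm)
  rw [mul_assoc, ← mul_assoc y c j, ← hcj y hy, mul_assoc] at hby
  exact (mul_left_cancel hby).symm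

end Cfsg.Agent.H21.WA
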