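import Cfsg.Agent.H77.WA.Defs
import Cfsg.Agent.H88.Walter.Perfect
import Cfsg.Agent.H88.Walter.Act
import Cfsg.Agent.H48.WA.Components
import Cfsg.Agent.Coprime.Centralize

/-!
# The perfect part of `C(x) ∩ pre b L`

Lemmas on images modulo cores, perfect subgroups and the soluble centralisers in a met component,
used for passing a component of `C(b)` into `C(x)`.
-/

set_option autoImplicit false
set_option linter.unusedSectionVars false
set_option linter.style.haveILetI false

namespace Cfsg.Agent.H21.WA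

open Subgroup Cfsg.Agent
open Cfsg.Agent.H88.Walter (Bb pre cen vp qp core perfPart mem_pre)
open Cfsg.Agent.H21.Walter (coreProj coreImage coreProj_eq_one_iff)
open Cfsg.Agent.H10.Walter (AbSyl)
open Cfsg.Agent.H77.WA (Struct Met Quot TypeFacts perfRes)
open scoped commutatorElement

universe u

variable {G : Type u} [Group G] [Finite G]

local instance fact_two_link : Fact (Nat.Prime 2) := ⟨Nat.prime_two⟩

/-- A perfect subgroup of a soluble subgroup is trivial. -/
theorem perfect_eq_bot {R Z : Subgroup G} (hR : Group.IsSolvable R) (hle : Z ≤ R)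
    (hp : ⁅Z, Z⁆ = Z) : Z = ⊥ := by
  haveI := Coprime.isSolvable_of_le hle hR
  have hperf : commutator Z = ⊤ := map_injective Z.subtype_injective (by
    rw [map_subtype_commutator, hp, ← MonoidHom.range_eq_map, range_subtype])
  by_contra hne
  haveI : Nontrivial Z := (nontrivial_iff_ne_bot Z).2 hne
  exact (Group.IsSolvable.commutator_lt_top_of_nontrivial Z).ne hperf

/-- The last term of the derived series is the largest perfect subgroup. -/
theorem perfRes_le_perfPart (H : Subgroup G) : perfRes H ≤ perfPart H := by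
  set d : ℕ → Subgroup G := fun n => (derivedSeries ↥H n).map H.subtype with hd
  have hanti : Antitone d := fun m n hmn => map_mono (derivedSeries_antitone ↥H hmn)
  obtain ⟨_, ⟨n, rfl⟩, hmin⟩ := (Set.toFinite (Set.range d)).exists_minimal ⟨d 0, 0, rfl⟩
  have hperf : ⁅d n, d n⁆ = d n := by
    have h1 : d (n + 1) = ⁅d n, d n⁆ := by
      show (derivedSeries ↥H (n + 1)).map H.subtype = _
      rw [derivedSeries_succ, map_commutator]
    rw [← h1]
    exact le_antisymm (hanti (Nat.le_succ n)) (hmin ⟨n + 1, rfl⟩ (hanti (Nat.le_succ n)))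
  exact (iInf_le d n).trans (H88.Walter.le_perfPart (map_subtype_le _) hperf)

/-- Odd order groups are soluble. -/
theorem isSolvable_odd {H : Subgroup G} (h : Odd (Nat.card H)) : Group.IsSolvable H :=
  Cfsg.Agent.S0205.result h

/-! ### Images modulo the core -/

variable {b : G}

theorem mem_coreImage {H : Subgroup G} {y : Bb b} :
    y ∈ coreImage b H ↔ ∃ (g : G) (hg : g ∈ centralizer ({b} : Set G)),
      g ∈ H ∧ coreProj b ⟨g, hg⟩ = y :=
  ⟨fun ⟨⟨g, hg⟩, h, e⟩ => ⟨g, hg, h, e⟩, fun ⟨_, hg, h, e⟩ => ⟨⟨_, hg⟩, h, e⟩⟩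

theorem coreImage_mono' {H H' : Subgroup G} (h : H ≤ H') : coreImage b H ≤ coreImage b H' :=
  map_mono (comap_mono h)

theorem coreImage_sup {H K : Subgroup G} (hH : H ≤ centralizer {b}) (hK : K ≤ centralizer {b}) :
    coreImage b (H ⊔ K) = coreImage b H ⊔ coreImage b K := by
  rw [coreImage, coreImage, coreImage, ← Subgroup.map_sup, subgroupOf_sup hH hK]

theorem coreImage_commutator {H K : Subgroup G} (hH : H ≤ centralizer {b})
    (hK : K ≤ centralizer {b}) :
    coreImage b ⁅H, K⁆ = ⁅coreImage b H, coreImage b K⁆ := by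
  rw [coreImage, coreImage, coreImage, ← map_commutator]
  congr 1
  refine map_injective (Subgroup.subtype_injective _) ?_
  rw [map_commutator, map_subgroupOf_eq_of_le hH, map_subgroupOf_eq_of_le hK,
    map_subgroupOf_eq_of_le]
  exact (commutator_mono hH hK).trans (commutator_le_self _)

theorem perfect_coreImage' {H : Subgroup G} (hH : H ≤ centralizer {b}) (hp : ⁅H, H⁆ = H) :
    ⁅coreImage b H, coreImage b H⁆ = coreImage b H := by
  rw [← coreImage_commutator hH hH, hp]

theorem coreImage_eq_bot_iff {H : Subgroup G} (hH : H ≤ centralizer {b}) :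
    coreImage b H = ⊥ ↔ H ≤ core b := by
  constructor
  · intro h g hg
    have := (mem_coreImage.2 ⟨g, hH hg, hg, rfl⟩ : _ ∈ coreImage b H)
    rw [h, mem_bot] at this
    exact coreProj_eq_one_iff.1 this
  · intro h
    refine (eq_bot_iff_forall _).2 fun y hy => ?_
    obtain ⟨g, hg, hgH, rfl⟩ := mem_coreImage.1 hy
    exact coreProj_eq_one_iff.2 (h hgH)

theorem coreImage_le_iff {H : Subgroup G} (hH : H ≤ centralizer {b}) {K : Subgroup (Bb b)} :
    coreImage b H ≤ K ↔ H ≤ pre b K := by
  constructor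
  · exact fun h g hg => mem_pre.2 ⟨hH hg, h (mem_coreImage.2 ⟨g, hH hg, hg, rfl⟩)⟩
  · intro h y hy
    obtain ⟨g, hg, hgH, rfl⟩ := mem_coreImage.1 hy
    obtain ⟨_, hm⟩ := mem_pre.1 (h hgH)
    exact hm

theorem coreImage_odd {H : Subgroup G} (h : H ≤ core b) : Odd (Nat.card H) :=
  H88.Walter.odd_of_le (H88.Walter.core_odd b) h

theorem normalizer_coreImage {H : Subgroup G} {g : G} (hg : g ∈ centralizer ({b} : Set G))
    (hn : g ∈ normalizer (H : Set G)) :
    coreProj b ⟨g, hg⟩ ∈ normalizer (coreImage b H : Set (Bb b)) := by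
  refine le_normalizer_map _ (mem_map_of_mem _ ?_)
  rw [mem_normalizer_iff] at hn ⊢
  exact fun y => hn y

theorem coreImage_le_normalizer {H K : Subgroup G} (h : H ≤ normalizer (K : Set G)) :
    coreImage b H ≤ normalizer (coreImage b K : Set (Bb b)) := by
  intro y hy
  obtain ⟨g, hg, hgH, rfl⟩ := mem_coreImage.1 hy
  exact normalizer_coreImage hg (h hgH)

/-- An element of `C(b)` normalising `K` normalises its preimage. -/
theorem mem_normalizer_pre {g : G} {K : Subgroup (Bb b)} (hg : g ∈ centralizer ({b} : Set G))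
    (hn : coreProj b ⟨g, hg⟩ ∈ normalizer (K : Set (Bb b))) :
    g ∈ normalizer (pre b K : Set G) := by
  refine Coprime.mem_normalizer_of_map_conj (eq_of_le_of_card_ge ?_
    (by rw [Coprime.card_map_conj]))
  rintro _ ⟨y, hy, rfl⟩
  obtain ⟨hyb, hyK⟩ := mem_pre.1 hy
  refine mem_pre.2 ⟨mul_mem (mul_mem hg hyb) (inv_mem hg), ?_⟩
  show coreProj b (⟨g, hg⟩ * ⟨y, hyb⟩ * ⟨g, hg⟩⁻¹) ∈ K
  rw [map_mul, map_mul, map_inv]
  exact (mem_normalizer_iff.1 hn _).1 hyK

/-! ### Sylow subgroups -/

/-- An odd kernel does not hide non-abelian Sylow 2-subgroups. -/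
theorem absyl_of_ker {H K : Type u} [Group H] [Finite H] [Group K] [Finite K] (f : H →* K)
    (hf : Odd (Nat.card f.ker)) (h : AbSyl K) : AbSyl H := fun T => by
  refine ⟨⟨fun a c => Subtype.ext ?_⟩⟩
  have hc : f ((a : H) * c) = f ((c : H) * a) := by
    rw [map_mul, map_mul]
    exact h.comm (T.isPGroup'.map f) (mem_map_of_mem f a.2) (mem_map_of_mem f c.2)
  set d : ↥(T : Subgroup H) := (c * a)⁻¹ * (a * c) with hd
  have hdk : (d : H) ∈ f.ker := by
    rw [MonoidHom.mem_ker, hd]
    push_cast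
    rw [map_mul, map_inv, hc, inv_mul_cancel]
  obtain ⟨k, hk⟩ := T.isPGroup' d
  have h1 : (d : H) = 1 := orderOf_eq_one_iff.1 (Nat.eq_one_of_dvd_coprimes
    (Nat.Coprime.pow_left k (Nat.coprime_two_left.2 hf))
    (orderOf_dvd_of_pow_eq_one (by simpa using congrArg Subtype.val hk))
    (orderOf_dvd_natCard _ hdk))
  have h2 : ((c * a)⁻¹ * (a * c) : ↥(T : Subgroup H)) = 1 := Subtype.ext h1
  exact congrArg Subtype.val (inv_mul_eq_one.1 h2).symm

/-- A subgroup of `J` mapped onto `L` with odd kernels. -/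
theorem absyl_of_link {H : Subgroup G} {x : G} {J : Subgroup (Bb x)} {L : Subgroup (Bb b)}
    (hx : H ≤ centralizer {x}) (hb : H ≤ centralizer {b}) (hJ : coreImage x H ≤ J)
    (hL : coreImage b H = L) (h : AbSyl ↥J) : AbSyl ↥L := by
  let f : ↥H →* ↥J := ((coreProj x).comp (inclusion hx)).codRestrict J
    fun y => hJ (mem_coreImage.2 ⟨y, hx y.2, y.2, rfl⟩)
  let g : ↥H →* ↥L := ((coreProj b).comp (inclusion hb)).codRestrict L
    fun y => hL ▸ mem_coreImage.2 ⟨y, hb y.2, y.2, rfl⟩
  have hg : Function.Surjective g := by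
    rintro ⟨y, hy⟩
    rw [← hL] at hy
    obtain ⟨m, hm, hmH, rfl⟩ := mem_coreImage.1 hy
    exact ⟨⟨m, hmH⟩, rfl⟩
  refine (absyl_of_ker f ?_ h).surj g hg
  have hle : f.ker.map H.subtype ≤ core x := by
    rintro _ ⟨y, hy, rfl⟩
    exact coreProj_eq_one_iff.1 (congrArg Subtype.val (MonoidHom.mem_ker.1 hy))
  rw [← Subgroup.card_map_of_injective H.subtype_injective]
  exact H88.Walter.odd_of_le (H88.Walter.core_odd x) hle

/-! ### Soluble centralisers in a met component -/

variable {X : Type u} [Group X] [Finite X] {A J : Subgroup X}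

theorem exists_noncentral (hstr : Struct A) (hJ : Met A J) :
    ∃ u ∈ A ⊓ J, ¬ u ∈ centralizer (J : Set X) := by
  by_contra! hc
  refine hJ.2 ((hstr.split J hJ).trans (sup_le ?_ inf_le_right))
  exact fun u hu => hc u hu

theorem quot_involution {u : X} (huJ : u ∈ J) (hu2 : u * u = 1)
    (hun : u ∉ centralizer (J : Set X)) :
    orderOf (QuotientGroup.mk' (center ↥J) ⟨u, huJ⟩) = 2 := by
  refine orderOf_eq_prime ?_ fun e => hun ?_
  · rw [← map_pow, show (⟨u, huJ⟩ : ↥J) ^ 2 = 1 from Subtype.ext (by simp [pow_two, hu2]), map_one]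
  · have hcen := (QuotientGroup.eq_one_iff _).1 e
    exact mem_centralizer_iff.2 fun y hy =>
      congrArg Subtype.val (mem_center_iff.1 hcen ⟨y, hy⟩)

/-- A subgroup of `J` with soluble image modulo the centre is soluble. -/
theorem solvable_of_image {Y : Subgroup X} (hYJ : Y ≤ J) {H : Subgroup (↥J ⧸ center ↥J)}
    (hH : Group.IsSolvable ↥H)
    (hY : (Y.subgroupOf J).map (QuotientGroup.mk' (center ↥J)) ≤ H) : Group.IsSolvable ↥Y := by
  set π := QuotientGroup.mk' (center ↥J)
  haveI : Group.IsSolvable ↥H := hH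
  haveI hc : Group.IsSolvable ↥(H.comap π) := by
    let f : ↥(H.comap π) →* ↥H := (π.comp (H.comap π).subtype).codRestrict H fun y => y.2
    have hker : ∀ y : f.ker, ((y : ↥(H.comap π)) : ↥J) ∈ center ↥J := fun y =>
      (QuotientGroup.eq_one_iff _).1 (congrArg Subtype.val (MonoidHom.mem_ker.1 y.2))
    haveI : IsMulCommutative ↥f.ker := ⟨⟨fun a c =>
      Subtype.ext (Subtype.ext (mem_center_iff.1 (hker c) _))⟩⟩
    haveI : Group.IsSolvable ↥f.ker := Coprime.isSolvable_of_isMulCommutative
    exact Group.isSolvable_of_ker_le_range f.ker.subtype f (by rw [range_subtype])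
  have h1 := Coprime.isSolvable_of_le (map_le_iff_le_comap.1 hY) hc
  have h2 := Coprime.isSolvable_map J.subtype h1
  rwa [map_subgroupOf_eq_of_le hYJ] at h2

/-- In a met component the centraliser of the part of `A` inside it is soluble. -/
theorem solvable_centralizer (htf : TypeFacts.{u}) (hA : Cfsg.IsElementaryAbelian 2 A)
    (hstr : Struct A) (hJ : Met A J) :
    Group.IsSolvable ↥(J ⊓ centralizer ((A ⊓ J : Subgroup X) : Set X)) := by
  set π := QuotientGroup.mk' (center ↥J) with hπ
  have hπs : Function.Surjective π := QuotientGroup.mk'_surjective _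
  set B := A.subgroupOf J with hB
  have hBp : IsPGroup 2 ↥B := (H47.isPGroup_of_elementaryAbelian hA).comap_subtype
  obtain ⟨T, hT⟩ := hBp.exists_le_sylow
  set Y := J ⊓ centralizer ((A ⊓ J : Subgroup X) : Set X)
  have hYc : (Y.subgroupOf J).map π ≤
      centralizer ((B.map π : Subgroup (↥J ⧸ center ↥J)) : Set (↥J ⧸ center ↥J)) := by
    rintro _ ⟨y, hy, rfl⟩
    refine mem_centralizer_iff.2 ?_
    rintro _ ⟨u, hu, rfl⟩
    rw [← map_mul, ← map_mul]
    exact congrArg π (Subtype.ext (mem_centralizer_iff.1 (mem_subgroupOf.1 hy).2 u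
      ⟨mem_subgroupOf.1 hu, u.2⟩))
  rcases hstr.type J hJ with hAT | hNT
  · set Tq : Sylow 2 (↥J ⧸ center ↥J) := T.mapSurjective hπs
    have hsq := (htf.ab _ hAT Tq).piece.sq
    have hBT : (Tq : Subgroup (↥J ⧸ center ↥J)) ≤ B.map π := by
      rintro _ ⟨t, ht, rfl⟩
      have h2 : t * t ∈ center ↥J := (QuotientGroup.eq_one_iff _).1
        ((map_mul π t t).trans (hsq _ ⟨t, ht, rfl⟩))
      obtain ⟨a, ha, z, hz, rfl⟩ :=
        mem_sup_of_normal_right.1 ((hstr.image J hJ T hT t ht).1 h2)
      exact ⟨a, ha, by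
        rw [map_mul, show π z = 1 from (QuotientGroup.eq_one_iff _).2 hz, mul_one]⟩
    refine solvable_of_image inf_le_left ?_ (hYc.trans (centralizer_le hBT))
    set H := centralizer ((Tq : Subgroup (↥J ⧸ center ↥J)) : Set (↥J ⧸ center ↥J))
    have hTH : (Tq : Subgroup (↥J ⧸ center ↥J)) ≤ H := fun t ht =>
      mem_centralizer_iff.2 fun s hs => by
        have h1 := hsq _ (mul_mem hs ht)
        have h2 := hsq s hs
        have h3 := hsq t ht
        calc s * t = s * t * ((t * s) * (t * s)) := by rw [hsq _ (mul_mem ht hs), mul_one]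
          _ = s * (t * t) * s * (t * s) := by simp only [mul_assoc]
          _ = t * s := by rw [h3, mul_one, h2, one_mul]
    set Ts := (Tq : Subgroup (↥J ⧸ center ↥J)).subgroupOf H
    haveI : Ts.Normal := normal_subgroupOf_of_le_normalizer (centralizer_le_normalizer _)
    haveI : IsMulCommutative ↥Ts := ⟨⟨fun a c => Subtype.ext (Subtype.ext
      (mem_centralizer_iff.1 (c : ↥H).2 _ a.2))⟩⟩
    haveI : Group.IsSolvable ↥Ts := Coprime.isSolvable_of_isMulCommutative
    haveI : Group.IsSolvable (↥H ⧸ Ts) := by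
      refine Cfsg.Agent.S0205.result ?_
      rw [← Subgroup.index_eq_card]
      exact Odd.of_dvd_nat (Nat.odd_iff.2 (Nat.two_dvd_ne_zero.1 Tq.not_dvd_index))
        (relIndex_dvd_index_of_le hTH)
    exact Group.isSolvable_of_ker_le_range Ts.subtype (QuotientGroup.mk' Ts)
      (by rw [QuotientGroup.ker_mk', range_subtype])
  · obtain ⟨u, ⟨huA, huJ⟩, hun⟩ := exists_noncentral hstr hJ
    obtain ⟨V, hV⟩ := htf.nab _ hNT (T.mapSurjective hπs)
    have hu2 : u * u = 1 := by rw [← pow_two]; exact hA.2 u huA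
    refine solvable_of_image inf_le_left (hV.soluble _ (quot_involution huJ hu2 hun))
      (hYc.trans (centralizer_le ?_))
    exact Set.singleton_subset_iff.2 (mem_map_of_mem π (mem_subgroupOf.2 huA))

end Cfsg.Agent.H21.WA
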