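import Cfsg.Agent.H77.WA.FourCentDefs
import Cfsg.Agent.H21.WA.Link
import Cfsg.Agent.H21.Walter.Glue
import Cfsg.Agent.H21.Walter.Two
import Cfsg.Agent.H52.Commuting.Basic
import Cfsg.Agent.S1174

/-!
# `|A| = 4`, the elementary group of order 16: the cores are small

`G` is 5/2-balanced with respect to `T`: for `b ∈ T ∖ A` the centraliser modulo its core has
elementary Sylow 2-subgroups of order 16 and pieces of order 4, for `b ∈ A#` the 2-group `P` is
self-centralising.  The centralisers of the involutions of `A` lie in every subgroup holding `N(T)`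
and the `N(E)`, so the half-balanced subgroup is trivial.
-/

set_option autoImplicit false
set_option linter.unusedSectionVars false
set_option linter.style.haveILetI false

namespace Cfsg.Agent.H21.WA

open Subgroup Cfsg.Agent
open Cfsg.Agent.H88.Walter (Bb core)
open Cfsg.Agent.H21.Walter (coreProj coreImage coreProj_eq_one_iff)
open Cfsg.Agent.H10.Walter (AbSyl)
open Cfsg.Agent.H77.WA
open scoped commutatorElement

universe u

variable {G : Type u} [Group G] [Finite G]

local instance fact_two_four : Fact (Nat.Prime 2) := ⟨Nat.prime_two⟩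

/-- Half-balance from the pieces or from the triviality of the groups under the cores. -/
theorem halfBalanced_of_cases {T : Subgroup G} (hT : Cfsg.IsElementaryAbelian 2 T)
    (h : ∀ b ∈ T, b ≠ 1 → H21.Walter.HasPieces (coreImage b T) ∨
      ∀ B ≤ T, 4 ≤ Nat.card B → ∀ W : Subgroup (Bb b),
        H21.Walter.LocalPieces.Under (coreImage b B) W → W = ⊥) :
    Cfsg.IsKHalfBalancedWrt 2 2 T := by
  have key : ∀ B ≤ T, Cfsg.IsElementaryAbelian 2 B → 4 ≤ Nat.card B → ∀ b ∈ T, b ≠ 1 →
      coreImage b (Cfsg.signalizerDelta 2 B ⊓ centralizer {b}) ≤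
          centralizer (coreImage b T : Set (Bb b)) ∧
        (8 ≤ Nat.card B → coreImage b (Cfsg.signalizerDelta 2 B ⊓ centralizer {b}) = ⊥) := by
    intro B hB hBe hc b hb hb1
    have hBb := hB.trans (H21.Walter.le_centralizer_self hT hb)
    have hU := H21.Walter.under_of_delta hBe hBb (le_trans (by norm_num) hc)
    have hBc : Nat.card (coreImage b B) = Nat.card B := H21.Walter.card_coreImage hT hB hBb
    rcases h b hb hb1 with ⟨ι, Z, L, V, P⟩ | h0
    · exact ⟨P.weak (coreImage_mono' hB) (hc.trans_eq hBc.symm) hU,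
        fun h8 => P.three (coreImage_mono' hB) (h8.trans_eq hBc.symm) hU⟩
    · have := h0 B hB hc _ hU
      exact ⟨this.le.trans bot_le, fun _ => this⟩
  refine ⟨fun B hB hBe hc b hb hb1 => ?_, fun B hB hBe hc b hb hb1 x hx => ?_⟩
  · have hTb := H21.Walter.le_centralizer_self hT hb
    have h1 := (key B hB hBe (by simpa using hc) b hb hb1).1
    rw [← coreImage_eq_bot_iff ((commutator_mono inf_le_right hTb).trans (commutator_le_self _)),
      coreImage_commutator inf_le_right hTb, commutator_eq_bot_iff_le_centralizer]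
    exact h1
  · have h1 := (key B hB hBe (le_trans (by norm_num) hc) b hb hb1).2 (by simpa using hc)
    exact (coreImage_eq_bot_iff inf_le_right).1 h1 hx

variable {S : Sylow 2 G} {A T P : Subgroup G}

/-- A 2-group holding a strongly closed subgroup normalises it. -/
theorem le_normalizer_of_closed (hA : Cfsg.IsStronglyClosed A (S : Subgroup G)) {Q : Subgroup G}
    (hQ : IsPGroup 2 Q) (hAQ : A ≤ Q) : Q ≤ normalizer (A : Set G) := by
  obtain ⟨h, hh⟩ := H52.Commuting.exists_cover S hQ
  have hc : ∀ x ∈ H52.Commuting.Conjs A, x ∈ Q → x ∈ H48.cj h A := fun x hx hxQ =>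
    H52.Commuting.mem_cj_of_mem_conjs hA hx (hh hxQ)
  have heq : A = H48.cj h A := eq_of_le_of_card_ge
    (fun a ha => hc a (H52.Commuting.mem_conjs_self ha) (hAQ ha))
    (by rw [H48.cj, Coprime.card_map_conj])
  intro q hq
  refine Coprime.mem_normalizer_of_map_conj (eq_of_le_of_card_ge ?_
    (by rw [Coprime.card_map_conj]))
  rintro _ ⟨a, ha, rfl⟩
  rw [heq]
  exact hc _ (H52.Commuting.conj_mem_conjs (H52.Commuting.mem_conjs_self ha) q)
    (mul_mem (mul_mem hq (hAQ ha)) (inv_mem hq))

/-- `T` is a Sylow 2-subgroup of `C(b)` for `b ∈ T ∖ A`. -/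
theorem exists_sylow_eq (h2 : TwoCfg S A) (hF : FourFrame A T) {b : G} (hb : b ∈ T) (hbA : b ∉ A) :
    ∃ Q : Sylow 2 ↥(centralizer ({b} : Set G)),
      (Q : Subgroup _) = T.subgroupOf (centralizer ({b} : Set G)) := by
  have hTb := H21.Walter.le_centralizer_self hF.elem hb
  have hTp : IsPGroup 2 ↥(T.subgroupOf (centralizer ({b} : Set G))) :=
    (H47.isPGroup_of_elementaryAbelian hF.elem).comap_subtype
  obtain ⟨Q, hQ⟩ := hTp.exists_le_sylow
  refine ⟨Q, (eq_of_le_of_card_ge hQ ?_).symm⟩
  set Qm := (Q : Subgroup _).map (centralizer ({b} : Set G)).subtype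
  have hTQ : T ≤ Qm := fun t ht => ⟨⟨t, hTb ht⟩, hQ (mem_subgroupOf.2 ht), rfl⟩
  have hQp : IsPGroup 2 ↥Qm := Q.isPGroup'.map _
  have hQA : Qm ≤ centralizer (A : Set G) := fun q hq => by
    refine h2.two_cent q (le_normalizer_of_closed h2.cfg.closed hQp (hF.le.trans hTQ) hq) ?_
    obtain ⟨k, hk⟩ := hQp ⟨q, hq⟩
    exact ⟨k, by simpa using congrArg Subtype.val hk⟩
  have := hF.small b hb (hF.all_toral b hb hbA) Qm hQp (le_inf hQA (map_subtype_le _))
  rw [Subgroup.card_map_of_injective (Subgroup.subtype_injective _)] at this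
  rwa [Nat.card_congr (subgroupOfEquivOfLe hTb).toEquiv, hF.card]

/-- For `b ∈ T ∖ A` the centraliser modulo its core has pieces. -/
theorem hasPieces_outside (hbs : BarStruct.{u}) (h2 : TwoCfg S A) (hF : FourFrame A T)
    {b : G} (hb : b ∈ T) (hbA : b ∉ A) : H21.Walter.HasPieces (coreImage b T) := by
  have hb1 : b ≠ 1 := fun e => hbA (e ▸ one_mem A)
  have hbC : b ∈ centralizer (A : Set G) := hF.le_cent hb
  have hstr := hbs G S A h2.cfg b hbC (orderOf_eq_prime (hF.elem.2 b hb) hb1)
  have hTb := H21.Walter.le_centralizer_self hF.elem hb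
  obtain ⟨Q, hQ⟩ := exists_sylow_eq h2 hF hb hbA
  set R : Sylow 2 (Bb b) := Q.mapSurjective (H88.Walter.coreProj_surjective b)
  have hR : (R : Subgroup (Bb b)) = coreImage b T := by
    rw [Sylow.coe_mapSurjective, hQ]; rfl
  have hTel := elem_coreImage hF.elem b
  have hab : AbSyl (Bb b) := by
    refine H10.Walter.absyl_of_sylow R ?_
    rw [hR]; exact hTel.1
  have hO : Cfsg.oddCore (Bb b) = ⊥ := H10.Walter.oddCore_bar _
  have hsq : ∀ U : Subgroup (Bb b), IsPGroup 2 U →
      Nat.card U ≤ 16 ∧ ∀ y ∈ U, y * y = 1 := by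
    intro U hU
    obtain ⟨U', hU'⟩ := hU.exists_le_sylow
    obtain ⟨g, rfl⟩ := MulAction.exists_smul_eq (Bb b) R U'
    refine ⟨?_, fun y hy => ?_⟩
    · have h16 : Nat.card ↥(R : Subgroup (Bb b)) = 16 := by
        rw [hR, H21.Walter.card_coreImage hF.elem le_rfl hTb, hF.card]
      refine (card_le_of_le hU').trans (le_of_eq ?_)
      rw [Sylow.card_eq_multiplicity, ← Sylow.card_eq_multiplicity R]
      exact h16
    · obtain ⟨t, ht, rfl⟩ := hU' hy
      show MulAut.conj g t * MulAut.conj g t = 1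
      rw [← map_mul, ← pow_two, hTel.2 t (hR ▸ ht), map_one]
  refine H21.Walter.hasPieces_of_absyl hab hO (fun L hL W => ?_)
    (H47.isPGroup_of_elementaryAbelian hTel)
  obtain ⟨hsimp, hnc⟩ := H10.Walter.component_simple hab hO hL
  haveI := hsimp
  have hc0 : center ↥L = ⊥ := (hsimp.eq_bot_or_eq_top_of_normal _
    inferInstance).resolve_right (Components.qs_center_ne_top hL.2)
  have hWsq : ∀ y ∈ (W : Subgroup ↥L), y * y = 1 := fun y hy => Subtype.ext
    ((hsq _ (W.isPGroup'.map L.subtype)).2 y ⟨y, hy, rfl⟩)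
  refine ⟨hWsq, Or.inl ?_⟩
  have hAel := elem_coreImage h2.cfg.elem b
  have hAb : A ≤ centralizer ({b} : Set G) := hF.le.trans hTb
  have hA4 : Nat.card (coreImage b A) = 4 := by
    rw [H21.Walter.card_coreImage h2.cfg.elem le_rfl hAb, h2.card]
  have hle4 : Nat.card ↥(W : Subgroup ↥L) ≤ 4 := by
    by_cases hmet : coreImage b A ≤ centralizer (L : Set (Bb b))
    · -- `A` centralises `L`, so the product with `A` is direct
      set Wm := (W : Subgroup ↥L).map L.subtype with hWm
      have hWc : coreImage b A ≤ centralizer (Wm : Set (Bb b)) :=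
        hmet.trans (centralizer_le (map_subtype_le _))
      have hp : IsPGroup 2 ↥(Wm ⊔ coreImage b A) :=
        (W.isPGroup'.map L.subtype).to_sup_of_normal_left'
          (H47.isPGroup_of_elementaryAbelian hAel) (hWc.trans (centralizer_le_normalizer _))
      have hinj : Function.Injective fun p : Wm × coreImage b A =>
          (⟨(p.1 : Bb b) * p.2, mul_mem (mem_sup_left p.1.2) (mem_sup_right p.2.2)⟩ :
            ↥(Wm ⊔ coreImage b A)) := by
        rintro ⟨w, a⟩ ⟨w', a'⟩ e
        have e1 : (w : Bb b) * a = w' * a' := congrArg Subtype.val e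
        have e2 : (w' : Bb b)⁻¹ * w = a' * (a : Bb b)⁻¹ := by
          rw [inv_mul_eq_iff_eq_mul, ← mul_assoc, ← e1, mul_inv_cancel_right]
        have h1 : (w' : Bb b)⁻¹ * w ∈ L :=
          map_subtype_le _ (mul_mem (inv_mem w'.2) w.2)
        have h1c : (w' : Bb b)⁻¹ * w ∈ centralizer (L : Set (Bb b)) :=
          e2 ▸ mul_mem (hmet a'.2) (inv_mem (hmet a.2))
        have h1' : (⟨_, h1⟩ : ↥L) ∈ center ↥L := mem_center_iff.2 fun l => Subtype.ext
          (mem_centralizer_iff.1 h1c l l.2)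
        rw [hc0, mem_bot] at h1'
        have h2' : (w' : Bb b)⁻¹ * w = 1 := congrArg Subtype.val h1'
        have ew : w = w' := Subtype.ext (inv_mul_eq_one.1 h2').symm
        subst ew
        exact Prod.ext rfl (Subtype.ext (mul_left_cancel e1))
      have := (Nat.card_le_card_of_injective _ hinj).trans (hsq _ hp).1
      rw [Nat.card_prod, hA4, hWm, Subgroup.card_map_of_injective L.subtype_injective] at this
      omega
    · -- `L` is met, its Sylow 2-subgroup is `A ⊓ L`
      obtain ⟨T0, hT0⟩ := ((H47.isPGroup_of_elementaryAbelian hAel).comap_subtype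
        (K := L)).exists_le_sylow
      have h0 : (T0 : Subgroup ↥L) ≤ (coreImage b A).subgroupOf L := by
        intro t ht
        have h1 : t * t ∈ center ↥L := by
          rw [hc0, mem_bot]
          exact Subtype.ext ((hsq _ (T0.isPGroup'.map L.subtype)).2 t ⟨t, ht, rfl⟩)
        have := (hstr.image L ⟨hL, hmet⟩ T0 hT0 t ht).1 h1
        rwa [hc0, sup_bot_eq] at this
      rw [Sylow.card_eq_multiplicity, ← Sylow.card_eq_multiplicity T0,
        ← Subgroup.card_map_of_injective L.subtype_injective, ← hA4]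
      refine card_le_of_le ((map_mono h0).trans ?_)
      rw [subgroupOf_map_subtype]
      exact inf_le_left
  obtain ⟨k, hk⟩ := IsPGroup.iff_card.1 W.isPGroup'
  have hk2 : ¬ k < 2 := by
    intro hk2
    have hLne := Components.qsSub_ne_bot hL.2
    refine hLne (H88.Walter.perfect_eq_bot_of_small (Components.component_perfect hL) fun U => ?_)
    rw [Sylow.card_eq_multiplicity, ← Sylow.card_eq_multiplicity W, hk]
    exact (Nat.pow_le_pow_right (by norm_num) (Nat.lt_succ_iff.1 hk2)).trans_eq (by norm_num)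
  rw [hk] at hle4 ⊢
  have hk3 : k ≤ 2 := (Nat.pow_le_pow_iff_right (le_refl 2)).1 hle4
  rw [show k = 2 by omega]
  norm_num

/-- For `b ∈ A#` every group under the cores is trivial. -/
theorem eq_bot_inside (h2 : TwoCfg S A) (hF : FourFrame A T) (hP : FourShape A T P)
    {b : G} (hb : b ∈ A) (hb1 : b ≠ 1) {B : Subgroup G} (hB : B ≤ T)
    {W : Subgroup (Bb b)} (hU : H21.Walter.LocalPieces.Under (coreImage b B) W) : W = ⊥ := by
  have hbC : centralizer (A : Set G) ≤ centralizer ({b} : Set G) :=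
    centralizer_le (Set.singleton_subset_iff.2 hb)
  have hTb : T ≤ centralizer ({b} : Set G) := hF.le_cent.trans hbC
  have hPb : P ≤ centralizer ({b} : Set G) := hP.le_cent.trans hbC
  have hOb : Cfsg.centralizerSubgroupPPrimeCore 2 A ≤ core b := by
    rw [← h2.core_fix b hb hb1]; exact inf_le_left
  have hOC : Cfsg.centralizerSubgroupPPrimeCore 2 A ≤ centralizer (A : Set G) := map_subtype_le _
  -- `C(A)` covers
  have hcov : ∀ y : Bb b, ∃ (g : G) (hg : g ∈ centralizer ({b} : Set G)),
      g ∈ centralizer (A : Set G) ∧ coreProj b ⟨g, hg⟩ = y := by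
    intro y
    obtain ⟨⟨g, hg⟩, rfl⟩ := H88.Walter.coreProj_surjective b y
    obtain ⟨k, hk, c, hc', rfl⟩ := (Coprime.mem_sup_iff (hbC.trans (H88.Walter.core_normal b))).1
      (h2.cover b hb hb1 hg)
    refine ⟨c, hbC hc', hc', ?_⟩
    rw [show (⟨k * c, hg⟩ : ↥(centralizer ({b} : Set G))) =
      ⟨k, H88.Walter.core_le b hk⟩ * ⟨c, hbC hc'⟩ from rfl, map_mul,
      H88.Walter.proj_eq_one _ hk, one_mul]
  by_cases hBA : B ≤ A
  · -- `B = A` is central
    have hle : (⊤ : Subgroup (Bb b)) ≤ centralizer (coreImage b B : Set (Bb b)) := by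
      intro y _
      obtain ⟨g, hg, hgA, rfl⟩ := hcov y
      refine mem_centralizer_iff.2 fun z hz => ?_
      obtain ⟨a, hab, ha, rfl⟩ := mem_coreImage.1 hz
      rw [← map_mul, ← map_mul]
      exact congrArg _ (Subtype.ext (mem_centralizer_iff.1 hgA a (hBA ha)))
    haveI : W.Normal := normalizer_eq_top_iff.1 (top_le_iff.1 (hle.trans hU.norm))
    exact le_bot_iff.1 ((Cores.le_oddCore hU.odd).trans (H10.Walter.oddCore_bar _).le)
  obtain ⟨t, htB, htA⟩ := SetLike.not_le_iff_exists.1 hBA
  set Pb := coreImage b P with hPbdef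
  set Bm := coreImage b B
  have hPp : IsPGroup 2 ↥Pb := (hP.two.comap_subtype (K := centralizer ({b} : Set G))).map _
  have hPO : coreImage b (Cfsg.centralizerSubgroupPPrimeCore 2 A ⊔ P) = Pb := by
    rw [coreImage_sup (hOC.trans hbC) hPb, (coreImage_eq_bot_iff (hOC.trans hbC)).2 hOb,
      bot_sup_eq]
  haveI hPn : Pb.Normal := normalizer_eq_top_iff.1 (top_le_iff.1 fun y _ => by
    obtain ⟨g, hg, hgA, rfl⟩ := hcov y
    exact hPO ▸ normalizer_coreImage hg (hP.normal hgA))
  have hself : centralizer (Pb : Set (Bb b)) ≤ Pb := by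
    intro y hy
    obtain ⟨g, hg, hgA, rfl⟩ := hcov y
    rw [← hPO]
    refine mem_coreImage.2 ⟨g, hg, hP.self g hgA fun p hp => ?_, rfl⟩
    rw [← h2.core_fix b hb hb1]
    refine ⟨(coreProj_eq_one_iff (x := (⟨g, hg⟩ * ⟨p, hPb hp⟩ * ⟨g, hg⟩⁻¹ * ⟨p, hPb hp⟩⁻¹ :
      ↥(centralizer ({b} : Set G))))).1 ?_,
      Subgroup.mul_mem _ (Subgroup.mul_mem _ (Subgroup.mul_mem _ hgA (hP.le_cent hp))
        (Subgroup.inv_mem _ hgA)) (Subgroup.inv_mem _ (hP.le_cent hp))⟩
    rw [map_mul, map_mul, map_mul, map_inv, map_inv, ← mem_centralizer_iff.1 hy _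
      (mem_coreImage.2 ⟨p, hPb hp, hp, rfl⟩)]
    group
  -- the fixed points of `B` on `P`
  have hQ : Pb ⊓ centralizer (Bm : Set (Bb b)) ≤ coreImage b T := by
    rintro y ⟨hyP, hyB⟩
    obtain ⟨p, hpb, hp, rfl⟩ := mem_coreImage.1 hyP
    refine mem_coreImage.2 ⟨p, hpb, ?_, rfl⟩
    have hcomm : (⁅p, t⁆ : G) = 1 := by
      have h1 : ⁅p, t⁆ ∈ core b := by
        refine (coreProj_eq_one_iff (x := ⁅(⟨p, hpb⟩ : ↥(centralizer ({b} : Set G))),
          (⟨t, hTb (hB htB)⟩ : ↥(centralizer ({b} : Set G)))⁆)).1 ?_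
        rw [map_commutatorElement, commutatorElement_eq_one_iff_mul_comm]
        exact (mem_centralizer_iff.1 hyB _
          (mem_coreImage.2 ⟨t, hTb (hB htB), htB, rfl⟩)).symm
      have h2' : ⁅p, t⁆ ∈ P := by
        rw [commutatorElement_def]
        exact P.mul_mem (P.mul_mem (P.mul_mem hp (hP.T_le (hB htB))) (P.inv_mem hp))
          (P.inv_mem (hP.T_le (hB htB)))
      obtain ⟨k, hk⟩ := hP.two ⟨_, h2'⟩
      exact orderOf_eq_one_iff.1 (Nat.eq_one_of_dvd_coprimes
        (Nat.Coprime.pow_left k (Nat.coprime_two_left.2 (H88.Walter.core_odd b)))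
        (orderOf_dvd_of_pow_eq_one (by simpa using congrArg Subtype.val hk))
        (orderOf_dvd_natCard _ h1))
    have hpc : p ∈ P ⊓ centralizer ({t} : Set G) :=
      ⟨hp, mem_centralizer_singleton_iff.2 (commutatorElement_eq_one_iff_mul_comm.1 hcomm)⟩
    rwa [hP.fix t (hB htB) htA] at hpc
  have hBT : Bm ≤ coreImage b T := coreImage_mono' hB
  have hTel := elem_coreImage hF.elem b
  have hTB : coreImage b T ≤ Pb ⊓ centralizer (Bm : Set (Bb b)) :=
    le_inf (coreImage_mono' hP.T_le) fun x hx => mem_centralizer_iff.2 fun z hz => by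
      haveI := hTel.1
      exact congrArg Subtype.val (mul_comm' (⟨z, hBT hz⟩ : ↥(coreImage b T)) ⟨x, hx⟩)
  have hWB : W ≤ centralizer (Bm : Set (Bb b)) := hU.le_cent
  have hWQ : W ≤ centralizer ((Pb ⊓ centralizer (Bm : Set (Bb b)) : Subgroup (Bb b)) :
      Set (Bb b)) := by
    rw [← commutator_eq_bot_iff_le_centralizer]
    set Q0 := Pb ⊓ centralizer (Bm : Set (Bb b))
    have h1 : ⁅W, Q0⁆ ≤ W :=
      le_normalizer_iff_commutator_le_left.1 ((inf_le_right).trans hU.norm)
    have h2' : ⁅W, Q0⁆ ≤ Q0 := le_normalizer_iff_commutator_le_right.1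
      ((le_inf (le_normalizer_of_normal) (hWB.trans le_normalizer)).trans
        inf_normalizer_le_normalizer_inf)
    obtain ⟨k, hk⟩ := IsPGroup.iff_card.1 (hPp.to_le (h2'.trans inf_le_left))
    refine card_eq_one.1 (Nat.eq_one_of_dvd_coprimes
      (Nat.Coprime.pow_left k (Nat.coprime_two_left.2 (hU.odd.of_dvd_nat (dvd_refl _))))
      hk.dvd (card_dvd_of_le h1))
  have hWP : W ≤ centralizer (Pb : Set (Bb b)) := Coprime.thompson_AxB
    (p := 2) ((H47.isPGroup_of_elementaryAbelian hTel).to_le hBT)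
    (Nat.coprime_two_right.2 hU.odd) (le_centralizer_iff.1 hWB) Pb hPp
    ((hBT.trans (hTB.trans inf_le_left)).trans le_normalizer) le_normalizer_of_normal
    (le_centralizer_iff.1 hWQ)
  have hle := hWP.trans hself
  obtain ⟨k, hk⟩ := IsPGroup.iff_card.1 (hPp.to_le hle)
  exact card_eq_one.1 (Nat.eq_one_of_dvd_coprimes
    (Nat.Coprime.pow_left k (Nat.coprime_two_left.2 hU.odd)) hk.dvd (dvd_refl _))

/-- **(b): the cores are small.** -/
theorem fourBalanceStep : BarStruct.{u} → FourBalanceStep.{u} := by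
  intro hbs G _ _ S A T P h2 hF hP
  haveI := h2.cfg.simple
  have hbal : Cfsg.IsKHalfBalancedWrt 2 2 T := halfBalanced_of_cases hF.elem fun b hb hb1 => by
    by_cases hbA : b ∈ A
    · exact Or.inr fun B hB _ W hU => eq_bot_inside h2 hF hP hbA hb1 hB hU
    · exact Or.inl (hasPieces_outside hbs h2 hF hb hbA)
  have hgen : ∀ M : Subgroup G, normalizer (T : Set G) ≤ M →
      (∀ E : Subgroup G, E ≤ T → Nat.card E = 2 ^ (2 + 1) → normalizer (E : Set G) ≤ M) →
      M = ⊤ := by
    intro M hN hE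
    by_contra hM
    refine h2.cfg.noSE (Cfsg.Agent.S1174.result S A h2.cfg.ne_bot h2.cfg.closed fun htop => hM ?_)
    rw [eq_top_iff, ← htop]
    refine iSup_le fun ⟨a, ha, ha2⟩ => ?_
    have ha1 : a ≠ 1 := by rintro rfl; simp at ha2
    have hTa : T ≤ centralizer ({a} : Set G) :=
      hF.le_cent.trans (centralizer_le (Set.singleton_subset_iff.2 ha))
    have hK : core a ≤ M := by
      haveI := hF.elem.1
      refine Coprime.le_of_centralizer_cyclic_quotient_le (A := T)
        (hTa.trans (H88.Walter.core_normal a)) ?_ fun B hB hBc => ?_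
      · rw [hF.card, show 16 = 2 ^ 4 by norm_num]
        exact Nat.Coprime.pow_left 4 (Nat.coprime_two_left.2 (H88.Walter.core_odd a))
      · have h8 := H21.Walter.hyper_card hF.elem hB hBc
        rw [hF.card] at h8
        obtain ⟨E, hEB, hEc⟩ := H21.Walter.exists_card_eq hF.elem hB
          (j := 3) (show 2 ^ 3 ≤ Nat.card B by omega)
        exact inf_le_right.trans (((centralizer_le hEB).trans (centralizer_le_normalizer _)).trans
          (hE E (hEB.trans hB) hEc))
    refine (h2.cover a ha ha1).trans (sup_le hK ((hP.cover).trans (sup_le ?_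
      (inf_le_right.trans hN))))
    exact ((h2.core_fix a ha ha1).ge.trans inf_le_left).trans hK
  obtain ⟨h8, h4⟩ := H21.Walter.trivial_of_gen_two (k := 2) (by norm_num) hF.elem
    (by rw [hF.card]; norm_num) hbal hgen
  exact ⟨fun E hE hc => h8 E hE (by simpa using hc), fun B hB hc => h4 B hB (by simpa using hc)⟩

end Cfsg.Agent.H21.WA
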